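import Cfsg.Agent.Lib.M23Cocode.Stable.Collect
import Cfsg.Agent.Lib.Golay.Spor

/-!
The linear equations satisfied by the relation constants in any extension of `M₂₃`, and the
correction of the lifts that they allow.
-/

set_option autoImplicit false
set_option maxRecDepth 4000
set_option maxHeartbeats 400000

namespace CfsgLib.M23Cocode.Stable

open Cfsg

attribute [local irreducible] evM evF collectW normE formXor formApp formVar matAct formZero
  Golay.permOf

/-! ### The elements -/

/-- The list of a permutation. -/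
def permAt (k : ℕ) : List ℕ := Data.perms.getD k (List.range 24)

theorem permAt_ok : ∀ k < 14,
    Golay.m24Test (permAt k) = true ∧ (permAt k).getD 23 0 = 23 := by decide +kernel

theorem ptEquiv_none : (Golay.ptEquiv none).val = 23 := by decide +kernel

theorem permAt_valid {k : ℕ} (hk : k < 14) : Golay.validL 24 (permAt k) = true := by
  have h := (permAt_ok k hk).1
  simp only [Golay.m24Test, Bool.and_eq_true] at h
  exact h.1

theorem permAt_mem {k : ℕ} (hk : k < 14) :
    Golay.permOf Golay.ptEquiv (permAt k) ∈ Spor.M23 := by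
  refine ⟨Golay.mem_M24_of_test (permAt_ok k hk).1, MulAction.mem_stabilizer_iff.2 ?_⟩
  refine Golay.ptEquiv.injective (Fin.ext ?_)
  rw [Equiv.Perm.smul_def, Golay.permOf_apply _ (permAt_valid hk), ptEquiv_none]
  exact (permAt_ok k hk).2

/-- The elements of `M₂₃`. -/
noncomputable def elt (k : ℕ) : ↥Spor.M23 :=
  if h : k < 14 then ⟨_, permAt_mem h⟩ else 1

/-- The image of a position under a word. -/
def imgL : List ℕ → ℕ → ℕ
  | [], i => i
  | a :: w, i => (permAt a).getD (imgL w i) 0

theorem elt_word : ∀ (w : List ℕ), (∀ a ∈ w, a < 14) → ∀ p : GolayPt,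
    (Golay.ptEquiv ((((w.map elt).prod : ↥Spor.M23) : Equiv.Perm GolayPt) p)).val =
      imgL w (Golay.ptEquiv p).val
  | [], _, p => rfl
  | a :: w, h, p => by
    have ha : a < 14 := h a List.mem_cons_self
    rw [List.map_cons, List.prod_cons, Subgroup.coe_mul, Equiv.Perm.mul_apply, elt, dif_pos ha]
    show (Golay.ptEquiv (Golay.permOf Golay.ptEquiv (permAt a) _)).val = _
    rw [Golay.permOf_apply _ (permAt_valid ha), elt_word w fun b hb => h b (List.mem_cons_of_mem _ hb)]
    rfl

theorem elt_word_eq {v w : List ℕ} (hv : ∀ a ∈ v, a < 14) (hw : ∀ a ∈ w, a < 14)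
    (h : ∀ i < 24, imgL v i = imgL w i) : (v.map elt).prod = (w.map elt).prod :=
  Subtype.ext (Equiv.ext fun p => Golay.ptEquiv.injective (Fin.ext (by
    rw [elt_word v hv, elt_word w hw]
    exact h _ (Golay.ptEquiv p).isLt)))

/-! ### The equations -/

/-- The certificate for one module. -/
structure Spec where
  /-- The matrices of the elements. -/
  act : List (List ℕ)
  /-- The matrices of their inverses. -/
  inv : List (List ℕ)
  /-- The conjugate pairs. -/
  conjs : List (ℕ × List ℕ × List ℕ)
  /-- The transported relations. -/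
  items : List (ℕ × ℕ × List (List ℕ × List ℕ))
  /-- The corrections. -/
  corr : List (List ℕ)
  /-- The selected equations. -/
  sel : List ((ℕ × ℕ) × ℕ)
  /-- The combinations. -/
  comb : List ℕ
  /-- The invariant. -/
  rest : ℕ
  /-- Its coordinates. -/
  kappa : ℕ

variable (D : Spec)

/-- A conjugate pair. -/
def Spec.conj (q : ℕ) : ℕ × List ℕ × List ℕ := D.conjs.getD q (14, [], [])

/-- The form of the constant of a conjugate pair. -/
def conjVar (q : ℕ) : ℕ := 308 + 11 * q

/-- A word in the conjugated generators. -/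
def Spec.srcWord (base : ℕ) (l : List ℕ) : List Lett :=
  l.flatMap fun q => (D.conj (base + q)).2.1.map Lett.gen

/-- The conjugate of a word. -/
def Spec.imgWord (base : ℕ) (l : List ℕ) : List Lett :=
  l.flatMap fun q => (D.conj (base + q)).2.2.map Lett.gen ++ [Lett.vec (formVar (conjVar (base + q)))]

/-- The two ways of collecting three letters. -/
def eqTri (tbl : List (List ℕ)) (w : List ℕ) : Form :=
  match stepAt tbl 0 w, stepAt tbl 1 w with
  | some p, some q =>
    if (collectW tbl collectFuel p.1 p.2).1 = (collectW tbl collectFuel q.1 q.2).1 then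
      formXor (collectW tbl collectFuel p.1 p.2).2 (collectW tbl collectFuel q.1 q.2).2
    else formZero
  | _, _ => formZero

/-- A transported relation. -/
def Spec.eqTrans (k base : ℕ) (lr : List ℕ × List ℕ) : Form :=
  if (normE D.inv (D.srcWord base lr.1)).1 = (normE D.inv (D.srcWord base lr.2)).1 ∧
      (normE D.inv (D.imgWord base lr.1)).1 = (normE D.inv (D.imgWord base lr.2)).1 then
    formXor
      (formXor (normE D.inv (D.imgWord base lr.1)).2 (normE D.inv (D.imgWord base lr.2)).2)
      (formApp (gmOf D.act k)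
        (formXor (normE D.inv (D.srcWord base lr.1)).2 (normE D.inv (D.srcWord base lr.2)).2))
  else formZero

/-- The triples of letters. -/
def triples : List (List ℕ) :=
  (List.range 7).flatMap fun i => ((List.range 7).drop i).flatMap fun j =>
    ((List.range 7).drop j).map fun k => [k, j, i]

/-- All equations. -/
def Spec.eqs : List Form :=
  triples.map (eqTri D.inv) ++
    D.items.flatMap fun it => it.2.2.map (D.eqTrans it.1 it.2.1)

/-- A combination of the selected equations. -/
def combine : List ((ℕ × ℕ) × ℕ) → ℕ → ℕ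
  | [], _ => 0
  | p :: l, lam => (if lam % 2 = 1 then p.2 else 0) ^^^ combine l (lam / 2)

/-- The correction of a generator. -/
def Spec.corrAt (a : ℕ) : Form := D.corr.getD a formZero

/-- The corrected left side. -/
def Spec.lhsWord (a b : ℕ) : List Lett :=
  [Lett.gen a, Lett.vec (D.corrAt a), Lett.gen b, Lett.vec (D.corrAt b)]

/-- The corrected right side. -/
def Spec.rhsWord (a b : ℕ) : List Lett :=
  (ruleRhs a b).flatMap fun c => [Lett.gen c, Lett.vec (D.corrAt c)]

/-- The rows of a corrected constant. -/
def Spec.targetRow (a b i : ℕ) : ℕ :=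
  combine D.sel (D.comb.getD (ruleVar a b + i) 0) ^^^
    (if D.kappa.testBit (ruleVar a b + i) then D.rest else 0)

/-- The indices of the rules. -/
def rulePairs : List (ℕ × ℕ) :=
  (List.range 7).flatMap fun a => (List.range (a + 1)).map fun b => (a, b)

theorem rulePairs_spec : ∀ a < 7, ∀ b ≤ a,
    rulePairs.getD (ruleVar a b / 11) (0, 0) = (a, b) ∧ ruleVar a b + 11 ≤ 308 := by decide +kernel

theorem rules_ok : ∀ a < 7, ∀ b ≤ a, (ruleRhs a b).all (fun c => decide (c < 7)) = true ∧
    ∀ i < 24, imgL [a, b] i = imgL (ruleRhs a b) i := by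
  decide +kernel

/-- What is checked. -/
structure Spec.Ok : Prop where
  inv_ok : ∀ k < 14, ∀ i : Fin 11,
    matAct (gmOf D.act k) (matAct (gmOf D.inv k) (Pi.single i 1)) = Pi.single i 1
  conjs_ok : ∀ q < D.conjs.length, (D.conj q).1 < 14 ∧
    (D.conj q).2.1.all (fun a => decide (a < 7)) = true ∧
    (D.conj q).2.2.all (fun a => decide (a < 7)) = true ∧
    ∀ i < 24, imgL ((D.conj q).1 :: (D.conj q).2.1) i = imgL ((D.conj q).2.2 ++ [(D.conj q).1]) i
  small : 308 + 11 * D.conjs.length ≤ numVars
  items_ok : ∀ it ∈ D.items, it.1 < 14 ∧ ∀ lr ∈ it.2.2, ∀ q ∈ lr.1 ++ lr.2,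
    it.2.1 + q < D.conjs.length ∧ (D.conj (it.2.1 + q)).1 = it.1
  sel_ok : ∀ p ∈ D.sel, p.1.2 < 11 ∧ (D.eqs.getD p.1.1 formZero).getD p.1.2 0 = p.2
  comb_ok : ∀ a < 7, ∀ b ≤ a,
    (normE D.inv (D.lhsWord a b)).1 = (normE D.inv (D.rhsWord a b)).1 ∧
    ∀ i < 11, (formXor (normE D.inv (D.lhsWord a b)).2 (normE D.inv (D.rhsWord a b)).2).getD i 0 =
      D.targetRow a b i

variable {D}

theorem matAct_add (m : List ℕ) (x y : CVec) : matAct m (x + y) = matAct m x + matAct m y := by
  funext i
  simp only [matAct, Pi.add_apply, add_mul, Finset.sum_add_distrib]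

theorem Spec.Ok.inv_apply (ok : D.Ok) {k : ℕ} (hk : k < 14) (x : CVec) :
    matAct (gmOf D.act k) (matAct (gmOf D.inv k) x) = x := by
  funext j
  refine ext_additive (f := fun x => matAct (gmOf D.act k) (matAct (gmOf D.inv k) x) j)
    (g := fun x => x j) (fun a b => ?_) (fun a b => rfl) (fun i => ?_) x
  · simp only [matAct_add, Pi.add_apply]
  · exact congrFun (ok.inv_ok k hk i) j

/-- An extension of `M₂₃` by the module of a certificate. -/
structure Ambient (D : Spec) (E : Type*) [Group E] where
  /-- The projection. -/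
  proj : E →* ↥Spor.M23
  proj_surjective : Function.Surjective proj
  /-- The embedding. -/
  emb : CVec → E
  emb_add : ∀ x y, emb (x + y) = emb x * emb y
  emb_injective : Function.Injective emb
  emb_range : ∀ g, proj g = 1 ↔ ∃ x, emb x = g
  emb_conj : ∀ k < 14, ∀ g, proj g = elt k → ∀ x, g * emb x * g⁻¹ = emb (matAct (gmOf D.act k) x)

variable {E : Type*} [Group E]

theorem Ambient.exists_diff (A : Ambient D E) {g h : E} (e : A.proj g = A.proj h) :
    ∃ x, g = h * A.emb x := by
  obtain ⟨x, hx⟩ := (A.emb_range (h⁻¹ * g)).1 (by rw [map_mul, map_inv, e, inv_mul_cancel])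
  exact ⟨x, by rw [hx, mul_inv_cancel_left]⟩

theorem Ambient.exists_gen (A : Ambient D E) :
    ∃ gen : ℕ → E, (∀ a < 14, A.proj (gen a) = elt a) ∧ ∀ a, 14 ≤ a → gen a = 1 := by
  choose f hf using fun a => A.proj_surjective (elt a)
  exact ⟨fun a => if a < 14 then f a else 1, fun a ha => by simp [ha, hf],
    fun a ha => if_neg (by omega)⟩

theorem matAct_idMat (x : CVec) : matAct idMat x = x := by
  funext j
  refine ext_additive (f := fun x => matAct idMat x j) (g := fun x => x j) (fun a b => ?_)
    (fun a b => rfl) (fun i => ?_) x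
  · simp only [matAct_add, Pi.add_apply]
  · revert i j
    decide +kernel

theorem Spec.Ok.lifts (ok : D.Ok) (hlen : D.inv.length ≤ 14) (A : Ambient D E) :
    ∃ L : Lifts D.inv E, L.emb = A.emb ∧ (∀ a < 14, A.proj (L.gen a) = elt a) ∧
      ∀ q < D.conjs.length,
        L.gen (D.conj q).1 * L.val (D.conj q).2.1 * (L.gen (D.conj q).1)⁻¹ =
          L.val (D.conj q).2.2 * L.emb (evF L.unk (formVar (conjVar q))) := by
  obtain ⟨gen, hgen, hout⟩ := A.exists_gen
  have hproj : ∀ w : List ℕ, (∀ a ∈ w, a < 14) → A.proj ((w.map gen).prod) = (w.map elt).prod := by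
    intro w hw
    rw [map_list_prod, List.map_map]
    exact congrArg List.prod (List.map_congr_left fun a ha => hgen a (hw a ha))
  have h7 : ∀ {w : List ℕ}, w.all (fun c => decide (c < 7)) = true → ∀ a ∈ w, a < 14 := by
    intro w hw a ha
    have := of_decide_eq_true (List.all_eq_true.1 hw a ha)
    omega
  have hrule : ∀ a b, ∃ x, a < 7 → b ≤ a →
      gen a * gen b = ((ruleRhs a b).map gen).prod * A.emb x := by
    intro a b
    by_cases h : a < 7 ∧ b ≤ a
    · obtain ⟨hw, himg⟩ := rules_ok a h.1 b h.2
      have e := elt_word_eq (v := [a, b]) (fun c hc => by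
        simp at hc; obtain rfl | rfl := hc <;> omega) (h7 hw) himg
      obtain ⟨x, hx⟩ := A.exists_diff (g := gen a * gen b) (h := ((ruleRhs a b).map gen).prod) (by
        rw [hproj _ (h7 hw), ← e, map_mul, hgen a (by omega), hgen b (by omega)]
        simp)
      exact ⟨x, fun _ _ => hx⟩
    · exact ⟨0, fun h1 h2 => absurd ⟨h1, h2⟩ h⟩
  choose cst hcst using hrule
  have hconj : ∀ q, ∃ x, q < D.conjs.length →
      gen (D.conj q).1 * ((D.conj q).2.1.map gen).prod * (gen (D.conj q).1)⁻¹ =
        ((D.conj q).2.2.map gen).prod * A.emb x := by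
    intro q
    by_cases h : q < D.conjs.length
    · obtain ⟨hk, hT, hI, himg⟩ := ok.conjs_ok q h
      have e := elt_word_eq (v := (D.conj q).1 :: (D.conj q).2.1)
        (w := (D.conj q).2.2 ++ [(D.conj q).1])
        (fun c hc => by
          rcases List.mem_cons.1 hc with rfl | hc
          exacts [hk, h7 hT c hc])
        (fun c hc => by
          rcases List.mem_append.1 hc with hc | hc
          exacts [h7 hI c hc, List.mem_singleton.1 hc ▸ hk]) himg
      rw [List.map_cons, List.prod_cons, List.map_append, List.prod_append, List.map_singleton,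
        List.prod_singleton] at e
      obtain ⟨x, hx⟩ := A.exists_diff
        (g := gen (D.conj q).1 * ((D.conj q).2.1.map gen).prod * (gen (D.conj q).1)⁻¹)
        (h := ((D.conj q).2.2.map gen).prod) (by
          rw [map_mul, map_mul, map_inv, hproj _ (h7 hT), hproj _ (h7 hI), hgen _ hk, e,
            mul_inv_cancel_right])
      exact ⟨x, fun _ => hx⟩
    · exact ⟨0, fun h1 => absurd h1 h⟩
  choose ucst hucst using hconj
  refine ⟨{
    emb := A.emb
    emb_add := A.emb_add
    gen := gen
    emb_gen := fun a x => ?_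
    unk := fun j => if j < 308 then
        cst (rulePairs.getD (j / 11) (0, 0)).1 (rulePairs.getD (j / 11) (0, 0)).2
          ⟨j % 11, Nat.mod_lt _ (by omega)⟩
      else ucst ((j - 308) / 11) ⟨(j - 308) % 11, Nat.mod_lt _ (by omega)⟩
    rule := fun a ha b hb => ?_ }, rfl, hgen, fun q hq => ?_⟩
  · by_cases ha : a < 14
    · have h := A.emb_conj a ha (gen a) (hgen a ha) (matAct (gmOf D.inv a) x)
      rw [ok.inv_apply ha] at h
      rw [← h, inv_mul_cancel_right]
    · rw [hout a (by omega), gmOf, List.getD_eq_default _ _ (by omega), matAct_idMat, mul_one,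
        one_mul]
  · obtain ⟨hp, hv⟩ := rulePairs_spec a ha b hb
    rw [hcst a b ha hb]
    congr 2
    rw [evF_formVar _ (by unfold numVars; omega)]
    funext i
    have hi := i.isLt
    have h11 : ruleVar a b % 11 = 0 := Nat.mul_mod_right _ _
    have hd : (ruleVar a b + i.val) / 11 = ruleVar a b / 11 := by omega
    have hm : (ruleVar a b + i.val) % 11 = i.val := by omega
    simp only [hd, hp, hm, if_pos (show ruleVar a b + i.val < 308 by omega)]
  · show gen _ * ((D.conj q).2.1.map gen).prod * _ = ((D.conj q).2.2.map gen).prod * _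
    rw [hucst q hq]
    congr 2
    have := ok.small
    rw [evF_formVar _ (by unfold conjVar; omega)]
    funext i
    have hi := i.isLt
    have hd : (conjVar q + i.val - 308) / 11 = q := by unfold conjVar; omega
    have hm : (conjVar q + i.val - 308) % 11 = i.val := by unfold conjVar; omega
    simp only [hd, hm, if_neg (show ¬ conjVar q + i.val < 308 by unfold conjVar; omega)]

theorem Lifts.valE_gen {tbl : List (List ℕ)} (L : Lifts tbl E) (w : List ℕ) :
    L.valE (w.map Lett.gen) = L.val w := by
  rw [Lifts.valE, Lifts.val, List.map_map]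
  rfl

theorem Lifts.valE_append {tbl : List (List ℕ)} (L : Lifts tbl E) (v w : List Lett) :
    L.valE (v ++ w) = L.valE v * L.valE w := by
  simp [Lifts.valE]

theorem conj_words (L : Lifts D.inv E) (k base : ℕ) :
    ∀ l : List ℕ,
      (∀ q ∈ l, L.gen k * L.val (D.conj (base + q)).2.1 * (L.gen k)⁻¹ =
        L.val (D.conj (base + q)).2.2 * L.emb (evF L.unk (formVar (conjVar (base + q))))) →
      L.gen k * L.valE (D.srcWord base l) * (L.gen k)⁻¹ = L.valE (D.imgWord base l)
  | [], _ => by simp [Spec.srcWord, Spec.imgWord, Lifts.valE]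
  | q :: l, h => by
    have ih := conj_words L k base l fun r hr => h r (List.mem_cons_of_mem _ hr)
    rw [Spec.srcWord, Spec.imgWord, List.flatMap_cons, List.flatMap_cons] at *
    rw [L.valE_append, L.valE_append, L.valE_append, L.valE_gen, L.valE_gen,
      show L.valE [Lett.vec (formVar (conjVar (base + q)))] =
        L.emb (evF L.unk (formVar (conjVar (base + q)))) by simp [Lifts.valE, Lifts.lval],
      ← h q List.mem_cons_self, ← ih]
    group

theorem Spec.Ok.eqs_zero (ok : D.Ok) (A : Ambient D E) (L : Lifts D.inv E) (he : L.emb = A.emb)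
    (hg : ∀ a < 14, A.proj (L.gen a) = elt a)
    (hc : ∀ q < D.conjs.length,
      L.gen (D.conj q).1 * L.val (D.conj q).2.1 * (L.gen (D.conj q).1)⁻¹ =
        L.val (D.conj q).2.2 * L.emb (evF L.unk (formVar (conjVar q)))) :
    ∀ F ∈ D.eqs, evF L.unk F = 0 := by
  have hinj : Function.Injective L.emb := he ▸ A.emb_injective
  intro F hF
  rw [Spec.eqs, List.mem_append] at hF
  rcases hF with hF | hF
  · obtain ⟨w, -, rfl⟩ := List.mem_map.1 hF
    unfold eqTri
    split
    · rename_i p q hp hq
      split
      · rename_i hn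
        have h := (L.stepAt_sound (w' := p.1) (F := p.2) hp).symm.trans
          (L.stepAt_sound (w' := q.1) (F := q.2) hq)
        rw [L.collectW_sound collectFuel, L.collectW_sound collectFuel q.1, hn] at h
        rw [evF_formXor, hinj (mul_left_cancel h)]
        funext i
        exact CharTwo.add_self_eq_zero _
      · exact evF_formZero _
    · exact evF_formZero _
  · obtain ⟨it, hit, hF⟩ := List.mem_flatMap.1 hF
    obtain ⟨lr, hlr, rfl⟩ := List.mem_map.1 hF
    unfold Spec.eqTrans
    split
    · rename_i hn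
      obtain ⟨k, base, rels⟩ := it
      have hq : ∀ q ∈ lr.1 ++ lr.2, L.gen k * L.val (D.conj (base + q)).2.1 * (L.gen k)⁻¹ =
          L.val (D.conj (base + q)).2.2 * L.emb (evF L.unk (formVar (conjVar (base + q)))) := by
        intro q hq
        obtain ⟨h1, h2⟩ := (ok.items_ok _ hit).2 lr hlr q hq
        have h2' : (D.conj (base + q)).1 = k := h2
        exact h2' ▸ hc _ h1
      have hk : k < 14 := (ok.items_ok _ hit).1
      have e1 := conj_words L k base lr.1 fun q hq' => hq q (List.mem_append_left _ hq')
      have e2 := conj_words L k base lr.2 fun q hq' => hq q (List.mem_append_right _ hq')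
      set S := formXor (normE D.inv (D.srcWord base lr.1)).2 (normE D.inv (D.srcWord base lr.2)).2
        with hS
      set T := formXor (normE D.inv (D.imgWord base lr.1)).2 (normE D.inv (D.imgWord base lr.2)).2
        with hT
      have hcj : L.gen k * L.emb (evF L.unk S) * (L.gen k)⁻¹ =
          L.emb (evF L.unk (formApp (gmOf D.act k) S)) := by
        rw [evF_formApp, he]
        exact A.emb_conj k hk _ (hg k hk) _
      rw [L.normE_eq hn.2, L.normE_eq hn.1, ← hS, ← hT, ← e2] at e1
      have h4 : (L.gen k * L.valE (D.srcWord base lr.2) * (L.gen k)⁻¹) *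
          (L.gen k * L.emb (evF L.unk S) * (L.gen k)⁻¹) =
            (L.gen k * L.valE (D.srcWord base lr.2) * (L.gen k)⁻¹) * L.emb (evF L.unk T) := by
        rw [← e1]; group
      rw [hcj] at h4
      show evF L.unk (formXor T (formApp (gmOf D.act k) S)) = 0
      rw [evF_formXor, hinj (mul_left_cancel h4)]
      funext i
      exact CharTwo.add_self_eq_zero _
    · exact evF_formZero _

theorem evM_combine {z : ℕ → ZMod 2} : ∀ (sel : List ((ℕ × ℕ) × ℕ)),
    (∀ p ∈ sel, evM z p.2 = 0) → ∀ lam, evM z (combine sel lam) = 0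
  | [], _, _ => evM_zero z
  | p :: l, h, lam => by
    rw [combine, evM_xor, evM_combine l (fun q hq => h q (List.mem_cons_of_mem _ hq)), add_zero]
    split
    exacts [h p List.mem_cons_self, evM_zero z]

/-- The constants left after correction. -/
def Spec.kappaVec (D : Spec) (a b : ℕ) : CVec :=
  fun i => if D.kappa.testBit (ruleVar a b + i.val) then 1 else 0

/-- In any extension there are lifts whose relation constants are a multiple of the invariant. -/
theorem Spec.Ok.exists_corrected (ok : D.Ok) (hlen : D.inv.length ≤ 14) (A : Ambient D E) :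
    ∃ (gen : ℕ → E) (e : ZMod 2), (∀ a < 7, A.proj (gen a) = elt a) ∧
      ∀ a < 7, ∀ b ≤ a,
        gen a * gen b = ((ruleRhs a b).map gen).prod * A.emb (e • D.kappaVec a b) := by
  obtain ⟨L, he, hg, hc⟩ := ok.lifts hlen A
  have hz := ok.eqs_zero A L he hg hc
  have hsel : ∀ p ∈ D.sel, evM L.unk p.2 = 0 := by
    intro p hp
    obtain ⟨h11, hrow⟩ := ok.sel_ok p hp
    rw [← hrow]
    have hF : evF L.unk (D.eqs.getD p.1.1 formZero) = 0 := by
      by_cases h : p.1.1 < D.eqs.length
      · rw [List.getD_eq_getElem _ _ h]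
        exact hz _ (List.getElem_mem h)
      · rw [List.getD_eq_default _ _ (by omega)]
        exact evF_formZero _
    have h := congrFun hF ⟨p.1.2, h11⟩
    rw [evF_apply] at h
    exact h
  refine ⟨fun a => L.gen a * L.emb (evF L.unk (D.corrAt a)), evM L.unk D.rest, fun a ha => ?_,
    fun a ha b hb => ?_⟩
  · rw [map_mul, hg a (by omega), he, (A.emb_range _).2 ⟨_, rfl⟩, mul_one]
  · obtain ⟨hn, hrows⟩ := ok.comb_ok a ha b hb
    have h := L.normE_eq hn
    have hl : L.valE (D.lhsWord a b) =
        L.gen a * L.emb (evF L.unk (D.corrAt a)) * (L.gen b * L.emb (evF L.unk (D.corrAt b))) := by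
      simp [Lifts.valE, Spec.lhsWord, Lifts.lval, mul_assoc]
    have hr : ∀ w : List ℕ, L.valE (w.flatMap fun c => [Lett.gen c, Lett.vec (D.corrAt c)]) =
        (w.map fun c => L.gen c * L.emb (evF L.unk (D.corrAt c))).prod := by
      intro w
      induction w with
      | nil => rfl
      | cons c w ih =>
        rw [List.flatMap_cons, L.valE_append, ih, List.map_cons, List.prod_cons]
        simp [Lifts.valE, Lifts.lval]
    rw [hl, Spec.rhsWord, hr, he] at h
    simp only [he]
    rw [h]
    congr 2
    funext i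
    rw [evF_apply, ← Spec.rhsWord, hrows i.val i.isLt, Spec.targetRow, evM_xor, evM_combine _ hsel, zero_add]
    rw [Pi.smul_apply, smul_eq_mul, Spec.kappaVec]
    split
    · rw [mul_one]
    · rw [evM_zero, mul_zero]

end CfsgLib.M23Cocode.Stable
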