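import Cfsg.Agent.Lib.M23Cocode.Stable.Modules

/-!
Extensions of `M₂₃` by its shortened code split.
-/

set_option autoImplicit false
set_option maxHeartbeats 400000

namespace CfsgLib.M23Cocode.Stable

open Cfsg

attribute [local irreducible] evM evF collectW normE matAct Golay.permOf sV cW cX gmOf

variable {E : Type*} [Group E]

/-- The projection attached to an identification of a quotient. -/
def quotProj (N : Subgroup E) [N.Normal] (φ : E ⧸ N ≃* ↥Spor.M23) : E →* ↥Spor.M23 :=
  φ.toMonoidHom.comp (QuotientGroup.mk' N)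

theorem quotProj_surjective (N : Subgroup E) [N.Normal] (φ : E ⧸ N ≃* ↥Spor.M23) :
    Function.Surjective (quotProj N φ) :=
  φ.surjective.comp (QuotientGroup.mk'_surjective N)

theorem ker_quotProj (N : Subgroup E) [N.Normal] (φ : E ⧸ N ≃* ↥Spor.M23) :
    (quotProj N φ).ker = N := by
  ext x
  simp [quotProj, MonoidHom.mem_ker]

theorem Ambient.ker_abelian {D : Spec} (A : Ambient D E) :
    ∀ x ∈ A.proj.ker, ∀ y ∈ A.proj.ker, x * y = y * x := by
  intro x hx y hy
  obtain ⟨u, rfl⟩ := (A.emb_range x).1 hx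
  obtain ⟨v, rfl⟩ := (A.emb_range y).1 hy
  rw [← A.emb_add, ← A.emb_add, add_comm]

theorem Ambient.ker_card {D : Spec} (A : Ambient D E) : Nat.card A.proj.ker = 2 ^ 11 := by
  let f : CVec → ↥A.proj.ker := fun x => ⟨A.emb x, (A.emb_range _).2 ⟨x, rfl⟩⟩
  have hf : Function.Bijective f :=
    ⟨fun x y e => A.emb_injective (congrArg Subtype.val e), fun ⟨g, hg⟩ => by
      obtain ⟨x, hx⟩ := (A.emb_range g).1 hg
      exact ⟨x, Subtype.ext hx⟩⟩
  rw [← Nat.card_congr (Equiv.ofBijective f hf)]
  simp [Nat.card_eq_fintype_card]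

theorem code_split [Finite E] (N : Subgroup E) [hN : N.Normal] (φ : E ⧸ N ≃* ↥Spor.M23)
    (ψ : Additive ↥N →+ (GolayPt → ZMod 2)) (hinj : Function.Injective ψ)
    (hrange : ∀ w : GolayPt → ZMod 2, w ∈ Set.range ψ ↔ (w ∈ golayCode ∧ w none = 0))
    (hψ : ∀ (g : E) (n : ↥N),
      ψ (Additive.ofMul ⟨g * n * g⁻¹, hN.conj_mem n n.2 g⟩)
        = ψ (Additive.ofMul n) ∘ ⇑(((φ (QuotientGroup.mk g) : ↥Spor.M23) : Equiv.Perm GolayPt)⁻¹)) :
    ∃ H : Subgroup E, H ⊓ N = ⊥ ∧ H ⊔ N = ⊤ := by
  have hex : ∀ x : CVec, ∃ n : Additive ↥N, ψ n = cW x := fun x =>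
    (hrange _).2 ⟨cW_mem x, cW_none x⟩
  choose m hm using hex
  have hadd : ∀ x y, m (x + y) = m x + m y := fun x y => hinj (by
    rw [map_add, hm, hm, hm, map_add])
  let A : Ambient codeSpec E :=
    { proj := quotProj N φ
      proj_surjective := quotProj_surjective N φ
      emb := fun x => ((m x).toMul : E)
      emb_add := fun x y => by rw [hadd, toMul_add, Subgroup.coe_mul]
      emb_injective := fun x y e => cW_injective (by
        rw [← hm, ← hm, show m x = m y from Additive.toMul.injective (Subtype.ext e)])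
      emb_range := fun g => by
        rw [← MonoidHom.mem_ker, ker_quotProj]
        constructor
        · intro hg
          obtain ⟨hw, h0⟩ := (hrange _).1 ⟨Additive.ofMul ⟨g, hg⟩, rfl⟩
          refine ⟨cX (ψ (Additive.ofMul ⟨g, hg⟩)), ?_⟩
          have h : m (cX (ψ (Additive.ofMul ⟨g, hg⟩))) = Additive.ofMul ⟨g, hg⟩ :=
            hinj ((hm _).trans (cW_cX_of_mem hw h0))
          rw [h]
          rfl
        · rintro ⟨x, rfl⟩
          exact (m x).toMul.2
      emb_conj := fun k hk g hg x => by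
        have h := hψ g (m x).toMul
        have e : φ (QuotientGroup.mk g) = elt k := hg
        rw [e, ofMul_toMul, hm] at h
        have h2 : ψ (Additive.ofMul ⟨g * ((m x).toMul : E) * g⁻¹, hN.conj_mem _ (m x).toMul.2 g⟩) =
            ψ (m (matAct (gmOf codeSpec.act k) x)) := by
          rw [h, hm]
          funext p
          rw [show gmOf codeSpec.act k = gmOf Data.mats k from rfl, ← sV_elt hk, cW_sV]
          rfl
        exact congrArg (fun n : Additive ↥N => (n.toMul : E)) (hinj h2) }
  obtain ⟨gen, e, hgen, hrule⟩ := codeSpec_ok.exists_corrected (by decide +kernel) A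
  obtain ⟨H, hH⟩ := exists_complement A.proj A.proj_surjective A.ker_abelian A.ker_card gen hgen
    fun a ha b hb => by
      rw [hrule a ha b hb, codeKappa_zero a ha b hb, smul_zero]
      have h0 : A.emb 0 = 1 := by
        have h := A.emb_add 0 0
        rw [add_zero] at h
        exact left_eq_mul.1 h
      rw [h0, mul_one]
  refine ⟨H, ?_, ?_⟩
  · rw [inf_comm, ← ker_quotProj N φ]
    exact hH.disjoint.eq_bot
  · rw [sup_comm, ← ker_quotProj N φ]
    exact hH.sup_eq_top

end CfsgLib.M23Cocode.Stable
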