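import Cfsg.Agent.Lib.M23Cocode.Basic
import Cfsg.Agent.Lib.M23Cocode.Stable.Data

/-!
Collection of words in seven generators of a two-group inside an extension by `Fin 11 → ZMod 2`,
with linear forms in unknown constants.
-/

set_option autoImplicit false

namespace CfsgLib.M23Cocode.Stable

/-- Eleven masks of coefficients. -/
abbrev Form : Type := List ℕ

/-- The bound on the number of unknowns. -/
def numVars : ℕ := 420

/-- The value of a mask. -/
def evM (z : ℕ → ZMod 2) (m : ℕ) : ZMod 2 := ∑ j ∈ Finset.range numVars, bit2 m j * z j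

/-- The value of a form. -/
def evF (z : ℕ → ZMod 2) (F : Form) : CVec := fun i => evM z (F.getD i.val 0)

/-- A matrix given by the images of the basis, applied to a vector. -/
def matAct (m : List ℕ) (x : CVec) : CVec := fun i => ∑ j, x j * bit2 (m.getD j.val 0) i.val

/-- The identity matrix. -/
def idMat : List ℕ := (List.range 11).map (2 ^ ·)

/-- The zero form. -/
def formZero : Form := List.replicate 11 0

/-- The sum of two forms. -/
def formXor (F G : Form) : Form := (List.range 11).map fun i => F.getD i 0 ^^^ G.getD i 0

/-- The exclusive or of selected values. -/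
def xorSel (sel : ℕ → Bool) (f : ℕ → ℕ) : List ℕ → ℕ
  | [] => 0
  | j :: l => (if sel j then f j else 0) ^^^ xorSel sel f l

/-- A matrix applied to a form. -/
def formApp (m : List ℕ) (F : Form) : Form :=
  (List.range 11).map fun i =>
    xorSel (fun j => (m.getD j 0).testBit i) (fun j => F.getD j 0) (List.range 11)

/-- The form of a block of eleven unknowns. -/
def formVar (o : ℕ) : Form := (List.range 11).map fun i => 2 ^ (o + i)

theorem bit2_xor (a b j : ℕ) : bit2 (a ^^^ b) j = bit2 a j + bit2 b j := by
  unfold bit2
  rw [Nat.testBit_xor]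
  cases a.testBit j <;> cases b.testBit j <;> decide

theorem bit2_zero (j : ℕ) : bit2 0 j = 0 := by simp [bit2]

theorem evM_zero (z : ℕ → ZMod 2) : evM z 0 = 0 := by simp [evM, bit2_zero]

theorem evM_xor (z : ℕ → ZMod 2) (a b : ℕ) : evM z (a ^^^ b) = evM z a + evM z b := by
  simp only [evM, bit2_xor, add_mul, Finset.sum_add_distrib]

theorem evM_two_pow (z : ℕ → ZMod 2) {j : ℕ} (hj : j < numVars) : evM z (2 ^ j) = z j := by
  unfold evM
  rw [Finset.sum_eq_single j (fun k _ hk => ?_) (fun h => absurd (Finset.mem_range.2 hj) h)]
  · simp [bit2, Nat.testBit_two_pow]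
  · simp [bit2, Nat.testBit_two_pow, Ne.symm hk]

theorem evM_zero_left (m : ℕ) : evM 0 m = 0 := by simp [evM]

theorem evF_apply (z : ℕ → ZMod 2) (F : Form) (i : Fin 11) : evF z F i = evM z (F.getD i.val 0) :=
  rfl

theorem evF_zero_left (F : Form) : evF 0 F = 0 := funext fun _ => evM_zero_left _

theorem evF_formZero (z : ℕ → ZMod 2) : evF z formZero = 0 := by
  funext i
  have h : formZero.getD i.val 0 = 0 := by revert i; decide
  simp only [evF, h, evM_zero, Pi.zero_apply]

theorem getD_map_range {α : Type*} (f : ℕ → α) (d : α) {i n : ℕ} (h : i < n) :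
    ((List.range n).map f).getD i d = f i := by
  rw [List.getD_eq_getElem _ _ (by simpa using h)]
  simp

theorem evF_formXor (z : ℕ → ZMod 2) (F G : Form) :
    evF z (formXor F G) = evF z F + evF z G := by
  funext i
  simp only [evF, formXor, getD_map_range _ _ i.isLt, evM_xor, Pi.add_apply]

theorem evM_xorSel (z : ℕ → ZMod 2) (sel : ℕ → Bool) (f : ℕ → ℕ) :
    ∀ l, evM z (xorSel sel f l) = (l.map fun j => if sel j then evM z (f j) else 0).sum
  | [] => evM_zero z
  | j :: l => by
    simp only [xorSel, evM_xor, evM_xorSel z sel f l, List.map_cons, List.sum_cons]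
    cases sel j <;> simp [evM_zero]

theorem evM_xorSel_range (z : ℕ → ZMod 2) (sel : ℕ → Bool) (f : ℕ → ℕ) (n : ℕ) :
    evM z (xorSel sel f (List.range n)) =
      ∑ j ∈ Finset.range n, if sel j then evM z (f j) else 0 := by
  rw [evM_xorSel]
  rfl

theorem evF_formApp (z : ℕ → ZMod 2) (m : List ℕ) (F : Form) :
    evF z (formApp m F) = matAct m (evF z F) := by
  funext i
  simp only [evF, formApp, getD_map_range _ _ i.isLt, evM_xorSel_range, matAct]
  rw [Finset.sum_range]
  refine Finset.sum_congr rfl fun j _ => ?_
  unfold bit2
  cases (m.getD j.val 0).testBit i.val <;> simp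

theorem evF_formVar (z : ℕ → ZMod 2) {o : ℕ} (h : o + 11 ≤ numVars) :
    evF z (formVar o) = fun i => z (o + i.val) := by
  funext i
  simp only [evF, formVar, getD_map_range _ _ i.isLt]
  exact evM_two_pow z (by omega)

/-- The matrix moving a constant to the right of a generator. -/
def gmOf (tbl : List (List ℕ)) (a : ℕ) : List ℕ := tbl.getD a idMat

/-- A constant moved to the right through a word. -/
def shiftW (tbl : List (List ℕ)) : List ℕ → Form → Form
  | [], F => F
  | a :: w, F => shiftW tbl w (formApp (gmOf tbl a) F)

/-- The right side of a rule. -/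
def ruleRhs (a b : ℕ) : List ℕ := Data.rules.getD (a * (a + 1) / 2 + b) []

/-- The constant of a rule. -/
def ruleVar (a b : ℕ) : ℕ := 11 * (a * (a + 1) / 2 + b)

/-- The rule at the head of a word. -/
def headStep (tbl : List (List ℕ)) : List ℕ → Option (List ℕ × Form)
  | a :: b :: r =>
    if a < 7 ∧ b ≤ a then some (ruleRhs a b ++ r, shiftW tbl r (formVar (ruleVar a b))) else none
  | _ => none

/-- The rule at a given place. -/
def stepAt (tbl : List (List ℕ)) : ℕ → List ℕ → Option (List ℕ × Form)
  | 0, l => headStep tbl l
  | k + 1, a :: r => (stepAt tbl k r).map fun p => (a :: p.1, p.2)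
  | _ + 1, [] => none

/-- The rightmost rule. -/
def stepR (tbl : List (List ℕ)) : List ℕ → Option (List ℕ × Form)
  | [] => none
  | a :: r =>
    match stepR tbl r with
    | some p => some (a :: p.1, p.2)
    | none => headStep tbl (a :: r)

/-- Repeated collection. -/
def collectW (tbl : List (List ℕ)) : ℕ → List ℕ → Form → List ℕ × Form
  | 0, w, F => (w, F)
  | n + 1, w, F =>
    match stepR tbl w with
    | some p => collectW tbl n p.1 (formXor F p.2)
    | none => (w, F)

/-- The amount of work allowed. -/
def collectFuel : ℕ := 1500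

/-- A letter: a generator or a constant. -/
inductive Lett where
  | gen (a : ℕ)
  | vec (F : Form)

/-- The constants moved to the end. -/
def pushV (tbl : List (List ℕ)) : List Lett → List ℕ × Form
  | [] => ([], formZero)
  | Lett.gen a :: w => (a :: (pushV tbl w).1, (pushV tbl w).2)
  | Lett.vec F :: w =>
    ((pushV tbl w).1, formXor (shiftW tbl (pushV tbl w).1 F) (pushV tbl w).2)

/-- Collection of a word with constants. -/
def normE (tbl : List (List ℕ)) (w : List Lett) : List ℕ × Form :=
  collectW tbl collectFuel (pushV tbl w).1 (pushV tbl w).2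

/-- An extension with chosen lifts of the generators and their relation constants. -/
structure Lifts (tbl : List (List ℕ)) (E : Type*) [Group E] where
  /-- The embedding of the module. -/
  emb : CVec → E
  emb_add : ∀ x y, emb (x + y) = emb x * emb y
  /-- The lifts. -/
  gen : ℕ → E
  emb_gen : ∀ a x, emb x * gen a = gen a * emb (matAct (gmOf tbl a) x)
  /-- The unknowns. -/
  unk : ℕ → ZMod 2
  rule : ∀ a < 7, ∀ b ≤ a, gen a * gen b =
    ((ruleRhs a b).map gen).prod * emb (evF unk (formVar (ruleVar a b)))

namespace Lifts

variable {tbl : List (List ℕ)} {E : Type*} [Group E] (L : Lifts tbl E)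

/-- The value of a word. -/
def val (w : List ℕ) : E := (w.map L.gen).prod

/-- The value of a letter. -/
def lval : Lett → E
  | Lett.gen a => L.gen a
  | Lett.vec F => L.emb (evF L.unk F)

/-- The value of a word with constants. -/
def valE (w : List Lett) : E := (w.map L.lval).prod

theorem emb_zero : L.emb 0 = 1 := by
  have h := L.emb_add 0 0
  rw [add_zero] at h
  exact left_eq_mul.1 h

theorem val_nil : L.val [] = 1 := rfl

theorem val_cons (a : ℕ) (w : List ℕ) : L.val (a :: w) = L.gen a * L.val w := List.prod_cons

theorem val_append (v w : List ℕ) : L.val (v ++ w) = L.val v * L.val w := by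
  simp [val]

theorem emb_val : ∀ (w : List ℕ) (F : Form),
    L.emb (evF L.unk F) * L.val w = L.val w * L.emb (evF L.unk (shiftW tbl w F))
  | [], F => by simp [val, shiftW]
  | a :: w, F => by
    rw [val_cons, ← mul_assoc, L.emb_gen, mul_assoc, ← evF_formApp, emb_val w]
    rw [shiftW, mul_assoc]

theorem headStep_sound {w w' : List ℕ} {F : Form} (h : headStep tbl w = some (w', F)) :
    L.val w = L.val w' * L.emb (evF L.unk F) := by
  match w, h with
  | a :: b :: r, h =>
    simp only [headStep] at h
    split at h
    · rename_i hab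
      obtain ⟨rfl, rfl⟩ := Prod.mk.inj (Option.some.inj h)
      rw [val_cons, val_cons, ← mul_assoc, L.rule a hab.1 b hab.2, val_append, mul_assoc, L.emb_val,
        ← mul_assoc]
      rfl
    · exact absurd h (by simp)
  | [_], h => exact absurd h (by simp [headStep])
  | [], h => exact absurd h (by simp [headStep])

theorem stepAt_sound : ∀ {k : ℕ} {w w' : List ℕ} {F : Form}, stepAt tbl k w = some (w', F) →
    L.val w = L.val w' * L.emb (evF L.unk F)
  | 0, w, w', F, h => L.headStep_sound (by simpa [stepAt] using h)
  | k + 1, [], w', F, h => by simp [stepAt] at h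
  | k + 1, a :: r, w', F, h => by
    simp only [stepAt, Option.map_eq_some_iff] at h
    obtain ⟨⟨r', F'⟩, h1, h2⟩ := h
    obtain ⟨rfl, rfl⟩ := Prod.mk.inj h2
    rw [val_cons, val_cons, stepAt_sound h1, mul_assoc]

theorem stepR_sound : ∀ {w w' : List ℕ} {F : Form}, stepR tbl w = some (w', F) →
    L.val w = L.val w' * L.emb (evF L.unk F)
  | [], w', F, h => by simp [stepR] at h
  | a :: r, w', F, h => by
    cases hr : stepR tbl r with
    | some p =>
      simp only [stepR, hr] at h
      obtain ⟨rfl, rfl⟩ := Prod.mk.inj (Option.some.inj h)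
      rw [val_cons, val_cons, stepR_sound (w' := p.1) (F := p.2) hr, mul_assoc]
    | none =>
      simp only [stepR, hr] at h
      exact L.headStep_sound h

theorem collectW_sound : ∀ (n : ℕ) (w : List ℕ) (F : Form),
    L.val w * L.emb (evF L.unk F) =
      L.val (collectW tbl n w F).1 * L.emb (evF L.unk (collectW tbl n w F).2)
  | 0, w, F => rfl
  | n + 1, w, F => by
    cases hs : stepR tbl w with
    | none => simp only [collectW, hs]
    | some p =>
      simp only [collectW, hs]
      rw [← collectW_sound n p.1 (formXor F p.2), evF_formXor,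
        L.stepR_sound (w' := p.1) (F := p.2) hs, mul_assoc, ← L.emb_add, add_comm]

theorem pushV_sound : ∀ w : List Lett,
    L.valE w = L.val (pushV tbl w).1 * L.emb (evF L.unk (pushV tbl w).2)
  | [] => by simp [valE, val, pushV, evF_formZero, emb_zero]
  | Lett.gen a :: w => by
    rw [valE, List.map_cons, List.prod_cons, ← valE, pushV_sound w, pushV, val_cons, mul_assoc]
    rfl
  | Lett.vec F :: w => by
    rw [valE, List.map_cons, List.prod_cons, ← valE, pushV_sound w, pushV, evF_formXor, L.emb_add]
    show L.emb (evF L.unk F) * _ = _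
    rw [← mul_assoc, L.emb_val, mul_assoc]

theorem normE_sound (w : List Lett) :
    L.valE w = L.val (normE tbl w).1 * L.emb (evF L.unk (normE tbl w).2) := by
  rw [L.pushV_sound w]
  exact L.collectW_sound collectFuel _ _

/-- Words with equal collected words give an equation. -/
theorem normE_eq {v w : List Lett} (h : (normE tbl v).1 = (normE tbl w).1) :
    L.valE v = L.valE w * L.emb (evF L.unk (formXor (normE tbl v).2 (normE tbl w).2)) := by
  have key : ∀ a b : CVec, a = b + (a + b) := fun a b => by
    funext i
    simp only [Pi.add_apply]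
    generalize a i = p
    generalize b i = q
    revert p q
    decide
  rw [L.normE_sound v, L.normE_sound w, h, mul_assoc, ← L.emb_add, evF_formXor, ← key]

end Lifts

end CfsgLib.M23Cocode.Stable
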