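import Cfsg.Agent.Lib.M23Cocode.Stable.CodeCase

/-!
The nonsplit extension of `M₂₃` by the cocode module is unique: two of them have a split difference.
-/

set_option autoImplicit false
set_option maxHeartbeats 400000

namespace CfsgLib.M23Cocode.Stable

open Cfsg

attribute [local irreducible] evM evF collectW normE matAct Golay.permOf sV cW cX gmOf pairing

theorem Ambient.emb_zero {D : Spec} {E : Type*} [Group E] (A : Ambient D E) : A.emb 0 = 1 := by
  have h := A.emb_add 0 0
  rw [add_zero] at h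
  exact left_eq_mul.1 h

theorem Ambient.emb_inv {D : Spec} {E : Type*} [Group E] (A : Ambient D E) (x : CVec) :
    (A.emb x)⁻¹ = A.emb x := by
  refine inv_eq_of_mul_eq_one_right ?_
  rw [← A.emb_add, show x + x = 0 from funext fun i => CharTwo.add_self_eq_zero _, A.emb_zero]

/-- Two extensions with the same action and the same constants are isomorphic. -/
theorem nonempty_equiv {D : Spec} {E E' : Type*} [Group E] [Finite E] [Group E'] [Finite E']
    (A : Ambient D E) (A' : Ambient D E')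
    (hsame : ∀ g g', A.proj g = A'.proj g' → ∀ x, ∃ y,
      g * A.emb x * g⁻¹ = A.emb y ∧ g' * A'.emb x * g'⁻¹ = A'.emb y)
    (gen : ℕ → E) (gen' : ℕ → E') (hgen : ∀ a < 7, A.proj (gen a) = elt a)
    (hgen' : ∀ a < 7, A'.proj (gen' a) = elt a) (c : ℕ → ℕ → CVec)
    (hrule : ∀ a < 7, ∀ b ≤ a, gen a * gen b = ((ruleRhs a b).map gen).prod * A.emb (c a b))
    (hrule' : ∀ a < 7, ∀ b ≤ a, gen' a * gen' b = ((ruleRhs a b).map gen').prod * A'.emb (c a b)) :
    Nonempty (E ≃* E') := by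
  let P : Subgroup (E × E') :=
    (A.proj.comp (MonoidHom.fst E E')).eqLocus (A'.proj.comp (MonoidHom.snd E E'))
  have hP : ∀ {g g'}, A.proj g = A'.proj g' → (g, g') ∈ P := fun h => h
  have hker : ∀ x, A.proj (A.emb x) = 1 := fun x => (A.emb_range _).2 ⟨x, rfl⟩
  have hker' : ∀ x, A'.proj (A'.emb x) = 1 := fun x => (A'.emb_range _).2 ⟨x, rfl⟩
  let diag : Subgroup ↥P :=
    { carrier := {p | ∃ x, (A.emb x, A'.emb x) = (p : E × E')}
      one_mem' := ⟨0, Prod.ext A.emb_zero A'.emb_zero⟩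
      mul_mem' := fun {p q} ⟨x, hx⟩ ⟨y, hy⟩ => ⟨x + y, by
        rw [Subgroup.coe_mul, ← hx, ← hy, A.emb_add, A'.emb_add]; rfl⟩
      inv_mem' := fun {p} ⟨x, hx⟩ => ⟨x, by
        rw [Subgroup.coe_inv, ← hx, Prod.inv_mk, A.emb_inv, A'.emb_inv]⟩ }
  haveI : diag.Normal := ⟨fun p hp g => by
    obtain ⟨x, hx⟩ := hp
    obtain ⟨y, hy, hy'⟩ := hsame g.1.1 g.1.2 g.2 x
    refine ⟨y, Prod.ext ?_ ?_⟩
    · rw [← hy]
      exact congrArg (fun z => (g.1.1 : E) * z * (g.1.1)⁻¹) (congrArg Prod.fst hx)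
    · rw [← hy']
      exact congrArg (fun z => (g.1.2 : E') * z * (g.1.2)⁻¹) (congrArg Prod.snd hx)⟩
  let pr : ↥P →* ↥Spor.M23 := A.proj.comp ((MonoidHom.fst E E').comp P.subtype)
  have hle : diag ≤ pr.ker := by
    rintro p ⟨x, hx⟩
    show A.proj p.1.1 = 1
    rw [← show A.emb x = p.1.1 from congrArg Prod.fst hx]
    exact hker x
  let πQ : ↥P ⧸ diag →* ↥Spor.M23 := QuotientGroup.lift diag pr hle
  let left : CVec → ↥P := fun x => ⟨(A.emb x, 1), hP (by rw [hker, map_one])⟩
  have hkerQ : ∀ q, πQ q = 1 ↔ ∃ x, (QuotientGroup.mk (left x) : ↥P ⧸ diag) = q := by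
    intro q
    obtain ⟨⟨⟨g, g'⟩, hp⟩, rfl⟩ := QuotientGroup.mk_surjective q
    constructor
    · intro h
      have h1 : A.proj g = 1 := h
      have h2 : A'.proj g' = 1 := (show A.proj g = A'.proj g' from hp) ▸ h1
      obtain ⟨x, rfl⟩ := (A.emb_range g).1 h1
      obtain ⟨y, rfl⟩ := (A'.emb_range g').1 h2
      refine ⟨x + y, QuotientGroup.eq.2 ⟨y, ?_⟩⟩
      show (A.emb y, A'.emb y) = ((A.emb (x + y))⁻¹ * A.emb x, (1 : E')⁻¹ * A'.emb y)
      rw [A.emb_inv, ← A.emb_add, inv_one, one_mul]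
      congr 2
      funext i
      simp only [Pi.add_apply]
      generalize x i = a
      generalize y i = b
      revert a b
      decide
    · rintro ⟨x, hx⟩
      rw [← hx]
      exact hker x
  have hpos : Finite (↥P ⧸ diag) := inferInstance
  have hπQ : Function.Surjective πQ := by
    intro σ
    obtain ⟨g, hg⟩ := A.proj_surjective σ
    obtain ⟨g', hg'⟩ := A'.proj_surjective σ
    exact ⟨QuotientGroup.mk ⟨(g, g'), hP (hg.trans hg'.symm)⟩, hg⟩
  have hleft : ∀ x y, left (x + y) = left x * left y := fun x y =>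
    Subtype.ext (Prod.ext (A.emb_add x y) (one_mul 1).symm)
  have hab : ∀ u ∈ πQ.ker, ∀ v ∈ πQ.ker, u * v = v * u := by
    intro u hu v hv
    obtain ⟨x, rfl⟩ := (hkerQ u).1 hu
    obtain ⟨y, rfl⟩ := (hkerQ v).1 hv
    rw [← QuotientGroup.mk_mul, ← QuotientGroup.mk_mul, ← hleft, ← hleft, add_comm]
  have hcard : Nat.card πQ.ker = 2 ^ 11 := by
    let f : CVec → ↥πQ.ker := fun x => ⟨QuotientGroup.mk (left x), (hkerQ _).2 ⟨x, rfl⟩⟩
    have hf : Function.Bijective f := by
      refine ⟨fun x y e => ?_, fun ⟨q, hq⟩ => ?_⟩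
      · obtain ⟨z, hz⟩ := QuotientGroup.eq.1 (congrArg Subtype.val e)
        have hz2 : A'.emb z = (1 : E')⁻¹ * 1 := congrArg Prod.snd hz
        have hz1 : A.emb z = (A.emb x)⁻¹ * A.emb y := congrArg Prod.fst hz
        rw [inv_one, one_mul, ← A'.emb_zero] at hz2
        rw [A'.emb_injective hz2, A.emb_zero] at hz1
        exact A.emb_injective (inv_mul_eq_one.1 hz1.symm)
      · obtain ⟨x, hx⟩ := (hkerQ q).1 hq
        exact ⟨x, Subtype.ext hx⟩
    rw [← Nat.card_congr (Equiv.ofBijective f hf)]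
    simp [Nat.card_eq_fintype_card]
  let pair : ℕ → ↥P := fun a =>
    if h : A.proj (gen a) = A'.proj (gen' a) then ⟨(gen a, gen' a), hP h⟩ else 1
  have hpair : ∀ a < 7, ((pair a : ↥P) : E × E') = (gen a, gen' a) := fun a ha => by
    show ((if h : _ then _ else 1 : ↥P) : E × E') = _
    rw [dif_pos (by rw [hgen a ha, hgen' a ha])]
  have hprodpair : ∀ w : List ℕ, (∀ a ∈ w, a < 7) →
      (((w.map pair).prod : ↥P) : E × E') = ((w.map gen).prod, (w.map gen').prod) := by
    intro w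
    induction w with
    | nil => intro _; rfl
    | cons a w ih =>
      intro h
      rw [List.map_cons, List.prod_cons, Subgroup.coe_mul, hpair a (h a List.mem_cons_self),
        ih fun b hb => h b (List.mem_cons_of_mem _ hb)]
      rfl
  obtain ⟨K, hK⟩ := exists_complement πQ hπQ hab hcard (fun a => QuotientGroup.mk (pair a))
    (fun a ha => by
      show A.proj ((pair a : ↥P) : E × E').1 = _
      rw [hpair a ha]
      exact hgen a ha)
    (fun a ha b hb => by
      have hw : ∀ d ∈ ruleRhs a b, d < 7 := fun d hd =>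
        of_decide_eq_true (List.all_eq_true.1 (rules_ok a ha b hb).1 d hd)
      rw [show ((ruleRhs a b).map fun a => (QuotientGroup.mk (pair a) : ↥P ⧸ diag)).prod =
          QuotientGroup.mk ((ruleRhs a b).map pair).prod by
        rw [← QuotientGroup.mk'_apply, map_list_prod, List.map_map]; rfl]
      rw [← QuotientGroup.mk_mul]
      refine (QuotientGroup.eq.2 ?_).symm
      refine ⟨c a b, ?_⟩
      rw [Subgroup.coe_mul, Subgroup.coe_mul, Subgroup.coe_inv, hpair a ha, hpair b (by omega),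
        hprodpair _ hw]
      show _ = (_⁻¹ * (gen a * gen b), _⁻¹ * (gen' a * gen' b))
      rw [hrule a ha b hb, hrule' a ha b hb, inv_mul_cancel_left, inv_mul_cancel_left])
  let K' : Subgroup ↥P := K.comap (QuotientGroup.mk' diag)
  have hdiagK : diag ≤ K' := fun p hp => by
    show (QuotientGroup.mk p : ↥P ⧸ diag) ∈ K
    rw [(QuotientGroup.eq_one_iff p).2 hp]
    exact one_mem _
  have hKdisj : ∀ p ∈ K', pr p = 1 → p ∈ diag := by
    intro p hp h
    have h' : (QuotientGroup.mk p : ↥P ⧸ diag) ∈ πQ.ker ⊓ K := ⟨h, hp⟩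
    rw [hK.disjoint.eq_bot] at h'
    exact (QuotientGroup.eq_one_iff p).1 h'
  have hfill : ∀ p : ↥P, ∃ x, left x * p ∈ K' := by
    intro p
    obtain ⟨⟨⟨u, hu⟩, ⟨k, hk⟩⟩, e⟩ := hK.2 (QuotientGroup.mk p)
    have e : u * k = (QuotientGroup.mk p : ↥P ⧸ diag) := e
    obtain ⟨x, rfl⟩ := (hkerQ u).1 hu
    refine ⟨x, ?_⟩
    show (QuotientGroup.mk (left x * p) : ↥P ⧸ diag) ∈ K
    rw [QuotientGroup.mk_mul, ← e, ← mul_assoc, ← QuotientGroup.mk_mul, ← hleft,
      show x + x = 0 from funext fun i => CharTwo.add_self_eq_zero _,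
      show left 0 = 1 from Subtype.ext (Prod.ext A.emb_zero rfl), QuotientGroup.mk_one, one_mul]
    exact hk
  let f₁ : ↥K' →* E := (MonoidHom.fst E E').comp (P.subtype.comp K'.subtype)
  let f₂ : ↥K' →* E' := (MonoidHom.snd E E').comp (P.subtype.comp K'.subtype)
  have h₁ : Function.Bijective f₁ := by
    refine ⟨(injective_iff_map_eq_one f₁).2 ?_, fun g => ?_⟩
    · rintro ⟨p, hp⟩ (h : p.1.1 = 1)
      obtain ⟨x, hx⟩ := hKdisj p hp (show A.proj p.1.1 = 1 by rw [h, map_one])
      have hx1 : A.emb x = p.1.1 := congrArg Prod.fst hx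
      rw [h, ← A.emb_zero] at hx1
      refine Subtype.ext (Subtype.ext (hx.symm.trans ?_))
      rw [A.emb_injective hx1, A.emb_zero, A'.emb_zero]
      rfl
    · obtain ⟨g', hg'⟩ := A'.proj_surjective (A.proj g)
      obtain ⟨x, hx⟩ := hfill ⟨(g, g'), hP hg'.symm⟩
      have hd : (⟨(A.emb x, A'.emb x), hP (by rw [hker, hker'])⟩ : ↥P) ∈ K' := hdiagK ⟨x, rfl⟩
      refine ⟨⟨_, mul_mem hd hx⟩, ?_⟩
      show A.emb x * (A.emb x * g) = g
      rw [← mul_assoc, ← A.emb_add, show x + x = 0 from funext fun i => CharTwo.add_self_eq_zero _,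
        A.emb_zero, one_mul]
  have h₂ : Function.Bijective f₂ := by
    refine ⟨(injective_iff_map_eq_one f₂).2 ?_, fun g' => ?_⟩
    · rintro ⟨p, hp⟩ (h : p.1.2 = 1)
      obtain ⟨x, hx⟩ := hKdisj p hp (show A.proj p.1.1 = 1 from
        (show A.proj p.1.1 = A'.proj p.1.2 from p.2).trans (by rw [h, map_one]))
      have hx2 : A'.emb x = p.1.2 := congrArg Prod.snd hx
      rw [h, ← A'.emb_zero] at hx2
      refine Subtype.ext (Subtype.ext (hx.symm.trans ?_))
      rw [A'.emb_injective hx2, A.emb_zero, A'.emb_zero]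
      rfl
    · obtain ⟨g, hg⟩ := A.proj_surjective (A'.proj g')
      obtain ⟨x, hx⟩ := hfill ⟨(g, g'), hP hg⟩
      exact ⟨⟨_, hx⟩, show (1 : E') * g' = g' from one_mul _⟩
  exact ⟨(MulEquiv.ofBijective f₁ h₁).symm.trans (MulEquiv.ofBijective f₂ h₂)⟩

/-- The embedding of the dual attached to a map onto the normal subgroup. -/
theorem dual_ambient {E : Type*} [Group E] (N : Subgroup E) [N.Normal]
    (φ : E ⧸ N ≃* ↥Spor.M23) (θ : (GolayPt → ZMod 2) →+ Additive ↥N)
    (hsurj : Function.Surjective θ)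
    (hker : ∀ w : GolayPt → ZMod 2, θ w = 0 ↔ (w ∈ golayCode ∨ w + Pi.single none 1 ∈ golayCode))
    (hθ : ∀ (g : E) (w : GolayPt → ZMod 2),
      ((θ (w ∘ ⇑(((φ (QuotientGroup.mk g) : ↥Spor.M23) : Equiv.Perm GolayPt)⁻¹))).toMul : E)
        = g * ((θ w).toMul : E) * g⁻¹) :
    ∃ A : Ambient dualSpec E, A.proj = quotProj N φ ∧ ∀ g v, g * A.emb v * g⁻¹ =
      A.emb (fun i => pairing (dualWord v ∘ ⇑((A.proj g : Equiv.Perm GolayPt))⁻¹) (Pi.single i 1)) := by
  have hpair : ∀ v w, (∀ x, pairing v x = pairing w x) → θ v = θ w := by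
    intro v w h
    have h2 : ∀ x, pairing (v + w) x = 0 := fun x => by
      rw [pairing_add_left, h, CharTwo.add_self_eq_zero]
    have h3 : θ (v + w) = 0 := (hker _).2 ((wordHom_ker _).1 ((wordHom_eq_zero_iff _).2 h2))
    have hww : θ w + θ w = 0 := by
      rw [← map_add, show w + w = 0 from funext fun i => CharTwo.add_self_eq_zero _, map_zero]
    rw [map_add] at h3
    calc θ v = θ v + (θ w + θ w) := by rw [hww, add_zero]
      _ = θ w := by rw [← add_assoc, h3, zero_add]
  have hdual : ∀ w, θ w = θ (dualWord fun i => pairing w (Pi.single i 1)) := fun w => by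
    refine hpair _ _ fun x => ?_
    rw [pairing_dualWord]
    exact additive_eq_sum (pairing_add_right w) x
  have hadd : ∀ x y, θ (dualWord (x + y)) = θ (dualWord x) + θ (dualWord y) := fun x y => by
    rw [← map_add]
    refine hpair _ _ fun z => ?_
    rw [pairing_add_left, pairing_dualWord, pairing_dualWord, pairing_dualWord]
    simp only [Pi.add_apply, add_mul, Finset.sum_add_distrib]
  have hconj : ∀ g v, g * ((θ (dualWord v)).toMul : E) * g⁻¹ =
      ((θ (dualWord fun i => pairing (dualWord v ∘ ⇑((quotProj N φ g : Equiv.Perm GolayPt))⁻¹)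
        (Pi.single i 1))).toMul : E) := fun g v => by
    rw [← hdual]
    exact (hθ g _).symm
  refine ⟨
    { proj := quotProj N φ
      proj_surjective := quotProj_surjective N φ
      emb := fun v => ((θ (dualWord v)).toMul : E)
      emb_add := fun x y => by rw [hadd, toMul_add, Subgroup.coe_mul]
      emb_injective := fun x y e => by
        have h : θ (dualWord x + dualWord y) = 0 := by
          rw [map_add, show θ (dualWord x) = θ (dualWord y) from
            Additive.toMul.injective (Subtype.ext e), ← map_add,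
            show dualWord y + dualWord y = 0 from funext fun i => CharTwo.add_self_eq_zero _,
            map_zero]
        have h2 := (wordHom_eq_zero_iff _).1 ((wordHom_ker _).2 ((hker _).1 h))
        funext i
        have h3 := h2 (Pi.single i 1)
        rw [pairing_add_left, pairing_dualWord, pairing_dualWord] at h3
        simp [Pi.single_apply] at h3
        exact CharTwo.add_eq_zero.1 h3
      emb_range := fun g => by
        rw [← MonoidHom.mem_ker, ker_quotProj]
        constructor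
        · intro hg
          obtain ⟨w, hw⟩ := hsurj (Additive.ofMul ⟨g, hg⟩)
          refine ⟨fun i => pairing w (Pi.single i 1), ?_⟩
          rw [← hdual, hw]
          rfl
        · rintro ⟨x, rfl⟩
          exact (θ (dualWord x)).toMul.2
      emb_conj := fun k hk g hg v => by
        rw [hconj]
        have e : θ (dualWord fun i => pairing (dualWord v ∘
            ⇑((quotProj N φ g : Equiv.Perm GolayPt))⁻¹) (Pi.single i 1)) =
            θ (dualWord (matAct (gmOf dualSpec.act k) v)) := by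
          rw [← hdual, hg]
          exact hpair _ _ fun x => (dual_conj hk v x).symm
        rw [e] }, rfl, hconj⟩

theorem eq_one_of_nonsplit {F : Type*} [Group F] [Finite F] (M : Subgroup F) [M.Normal]
    (χ : F ⧸ M ≃* ↥Spor.M23) (B : Ambient dualSpec F) (hB : B.proj = quotProj M χ)
    (hn : ∀ H : Subgroup F, H ⊓ M = ⊥ → H ⊔ M ≠ ⊤) (g : ℕ → F) (d : ZMod 2)
    (hg : ∀ a < 7, B.proj (g a) = elt a)
    (hr : ∀ a < 7, ∀ b ≤ a,
      g a * g b = ((ruleRhs a b).map g).prod * B.emb (d • dualSpec.kappaVec a b)) :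
    d = 1 := by
  by_contra hd
  have key : ∀ x : ZMod 2, x ≠ 1 → x = 0 := by decide
  obtain rfl := key d hd
  obtain ⟨H, hH⟩ := exists_complement B.proj B.proj_surjective B.ker_abelian B.ker_card g hg
    fun a ha b hb => by rw [hr a ha b hb, zero_smul, B.emb_zero, mul_one]
  have hM : B.proj.ker = M := by rw [hB, ker_quotProj]
  refine hn H ?_ ?_
  · rw [inf_comm, ← hM]
    exact hH.disjoint.eq_bot
  · rw [sup_comm, ← hM]
    exact hH.sup_eq_top

theorem dual_unique {E : Type*} [Group E] [Finite E] (N : Subgroup E) [N.Normal]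
    (φ : E ⧸ N ≃* ↥Spor.M23) (θ : (GolayPt → ZMod 2) →+ Additive ↥N)
    (hsurj : Function.Surjective θ)
    (hker : ∀ w : GolayPt → ZMod 2, θ w = 0 ↔ (w ∈ golayCode ∨ w + Pi.single none 1 ∈ golayCode))
    (hθ : ∀ (g : E) (w : GolayPt → ZMod 2),
      ((θ (w ∘ ⇑(((φ (QuotientGroup.mk g) : ↥Spor.M23) : Equiv.Perm GolayPt)⁻¹))).toMul : E)
        = g * ((θ w).toMul : E) * g⁻¹)
    (hns : ∀ H : Subgroup E, H ⊓ N = ⊥ → H ⊔ N ≠ ⊤)
    {E' : Type*} [Group E'] [Finite E'] (N' : Subgroup E') [N'.Normal]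
    (φ' : E' ⧸ N' ≃* ↥Spor.M23) (θ' : (GolayPt → ZMod 2) →+ Additive ↥N')
    (hsurj' : Function.Surjective θ')
    (hker' : ∀ w : GolayPt → ZMod 2, θ' w = 0 ↔ (w ∈ golayCode ∨ w + Pi.single none 1 ∈ golayCode))
    (hθ' : ∀ (g : E') (w : GolayPt → ZMod 2),
      ((θ' (w ∘ ⇑(((φ' (QuotientGroup.mk g) : ↥Spor.M23) : Equiv.Perm GolayPt)⁻¹))).toMul : E')
        = g * ((θ' w).toMul : E') * g⁻¹)
    (hns' : ∀ H : Subgroup E', H ⊓ N' = ⊥ → H ⊔ N' ≠ ⊤) :
    Nonempty (E ≃* E') := by
  obtain ⟨A, hA, hAc⟩ := dual_ambient N φ θ hsurj hker hθ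
  obtain ⟨A', hA', hAc'⟩ := dual_ambient N' φ' θ' hsurj' hker' hθ'
  obtain ⟨gen, e, hgen, hrule⟩ := dualSpec_ok.exists_corrected (by decide +kernel) A
  obtain ⟨gen', e', hgen', hrule'⟩ := dualSpec_ok.exists_corrected (by decide +kernel) A'
  have he := eq_one_of_nonsplit N φ A hA hns gen e hgen hrule
  have he' := eq_one_of_nonsplit N' φ' A' hA' hns' gen' e' hgen' hrule'
  refine nonempty_equiv A A' (fun g g' h x => ⟨_, hAc g x, ?_⟩) gen gen' hgen hgen'
    (fun a b => e • dualSpec.kappaVec a b) hrule ?_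
  · rw [h]
    exact hAc' g' x
  · intro a ha b hb
    rw [hrule' a ha b hb, he, he']

end CfsgLib.M23Cocode.Stable
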