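import Cfsg.Agent.Lib.M23Cocode.Stable.Split

/-!
The certificates for the shortened code and for its dual.
-/

set_option autoImplicit false
set_option maxRecDepth 100000

namespace CfsgLib.M23Cocode.Stable

open Cfsg

/-- The certificate for the code. -/
def codeSpec : Spec where
  act := Data.mats
  inv := Data.matsInv
  conjs := Data.codeConjs
  items := Data.codeItems
  corr := Data.codeCorr
  sel := Data.codeSel
  comb := Data.codeComb
  rest := Data.codeInv
  kappa := Data.codeKappa

/-- The certificate for the dual. -/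
def dualSpec : Spec where
  act := Data.duals
  inv := Data.dualsInv
  conjs := Data.dualConjs
  items := Data.dualItems
  corr := Data.dualCorr
  sel := Data.dualSel
  comb := Data.dualComb
  rest := Data.dualInv
  kappa := Data.dualKappa

theorem codeSpec_ok : codeSpec.Ok where
  inv_ok := by decide +kernel
  conjs_ok := by decide +kernel
  small := by decide +kernel
  items_ok := by decide +kernel
  sel_ok := by decide +kernel
  comb_ok := by decide +kernel

theorem dualSpec_ok : dualSpec.Ok where
  inv_ok := by decide +kernel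
  conjs_ok := by decide +kernel
  small := by decide +kernel
  items_ok := by decide +kernel
  sel_ok := by decide +kernel
  comb_ok := by decide +kernel

theorem mats_check : ∀ k < 14, ∀ i : Fin 11, ∀ p < 24,
    ∑ j : Fin 11, bit2 ((gmOf Data.mats k).getD i.val 0) j.val * cB j (Golay.pt ((permAt k).getD p 0)) =
      cB i (Golay.pt p) := by
  decide +kernel

theorem duals_check : ∀ k < 14, ∀ i j : Fin 11,
    ∑ l : Fin 11, bit2 ((gmOf Data.duals k).getD i.val 0) l.val *
      bit2 ((gmOf Data.mats k).getD j.val 0) l.val = if i = j then 1 else 0 := by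
  decide +kernel

theorem codeKappa_zero : ∀ a < 7, ∀ b ≤ a, codeSpec.kappaVec a b = 0 := by decide +kernel

attribute [local irreducible] evM evF collectW normE matAct Golay.permOf sV cW pairing gmOf

theorem pt_elt {k : ℕ} (hk : k < 14) (p : GolayPt) :
    ((elt k : ↥Spor.M23) : Equiv.Perm GolayPt) p =
      Golay.pt ((permAt k).getD (Golay.ptEquiv p).val 0) := by
  rw [elt, dif_pos hk]
  show Golay.permOf Golay.ptEquiv (permAt k) p = _
  rw [← Golay.permOf_apply Golay.ptEquiv (permAt_valid hk) p, Golay.pt_ptEquiv]

theorem sV_elt {k : ℕ} (hk : k < 14) (x : CVec) : sV (elt k) x = matAct (gmOf Data.mats k) x := by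
  refine cW_injective (funext fun p => ?_)
  obtain ⟨q, rfl⟩ := ((elt k : ↥Spor.M23) : Equiv.Perm GolayPt).surjective p
  rw [cW_sV, Equiv.Perm.inv_def, Equiv.symm_apply_apply, pt_elt hk]
  have hc := mats_check k hk
  have hq : ∀ i : Fin 11, cB i q = ∑ j : Fin 11, bit2 ((gmOf Data.mats k).getD i.val 0) j.val *
      cB j (Golay.pt ((permAt k).getD (Golay.ptEquiv q).val 0)) := fun i => by
    rw [hc i _ (Golay.ptEquiv q).isLt, Golay.pt_ptEquiv]
  simp only [cW, LinearMap.coe_mk, AddHom.coe_mk, matAct]
  simp only [hq, Finset.mul_sum, Finset.sum_mul, mul_assoc]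
  exact Finset.sum_comm

/-- The word with the given coordinates in the dual. -/
def dualWord (v : CVec) : GolayPt → ZMod 2 := fun p => ∑ i, if p = cPiv i then v i else 0

theorem pairing_dualWord (v x : CVec) : pairing (dualWord v) x = ∑ i, v i * x i :=
  pairing_basis_word v x

theorem sum_transpose {ι R : Type*} [Fintype ι] [DecidableEq ι] [CommRing R] (A B : ι → ι → R)
    (h : ∀ i j, ∑ l, A i l * B j l = if i = j then 1 else 0) (v y : ι → R) :
    ∑ l, (∑ i, v i * A i l) * (∑ j, y j * B j l) = ∑ i, v i * y i := by
  simp only [Finset.sum_mul_sum]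
  rw [Finset.sum_comm]
  refine Finset.sum_congr rfl fun i _ => ?_
  rw [Finset.sum_comm]
  calc ∑ j, ∑ l, v i * A i l * (y j * B j l)
      = ∑ j, v i * y j * (if i = j then 1 else 0) := by
        refine Finset.sum_congr rfl fun j _ => ?_
        rw [← h i j, Finset.mul_sum]
        exact Finset.sum_congr rfl fun l _ => by ring
    _ = v i * y i := by simp

theorem dual_conj {k : ℕ} (hk : k < 14) (v x : CVec) :
    pairing (dualWord (matAct (gmOf Data.duals k) v)) x =
      pairing (dualWord v ∘ ⇑((elt k : ↥Spor.M23) : Equiv.Perm GolayPt)⁻¹) x := by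
  have hy : sV (elt k) (sV (elt k)⁻¹ x) = x := sV_inv (elt k) x
  rw [← hy, pairing_comp, pairing_dualWord, pairing_dualWord, sV_elt hk]
  generalize sV (elt k)⁻¹ x = y
  simp only [matAct]
  exact sum_transpose (fun i l : Fin 11 => bit2 ((gmOf Data.duals k).getD i.val 0) l.val)
    (fun j l : Fin 11 => bit2 ((gmOf Data.mats k).getD j.val 0) l.val) (duals_check k hk) v y

end CfsgLib.M23Cocode.Stable
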