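import Cfsg.Agent.Lib.M23Cocode.Stable.Check
import Cfsg.Agent.Lib.M23Cocode.Main
import Cfsg.Agent.Lib.Solvable.Gaschutz

/-!
Exact relation constants give a complement: the lifts generate a complement over the Sylow
two-subgroup, and Gaschütz's theorem extends it.
-/

set_option autoImplicit false
set_option maxHeartbeats 400000

namespace CfsgLib.M23Cocode.Stable

open Cfsg

/-- The normal words. -/
def nfList : List (List ℕ) :=
  (List.range 128).map fun m => (List.range 7).filter fun i => m.testBit i

theorem nfList_closed : ∀ n ∈ nfList, n.all (fun a => decide (a < 7)) = true ∧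
    ∀ a < 7, (collectW [] collectFuel (n ++ [a]) formZero).1 ∈ nfList := by
  decide +kernel

theorem nfList_nil : [] ∈ nfList := by decide +kernel

theorem nfList_faithful : ∀ n ∈ nfList, (∀ i < 24, imgL n i = i) → n = [] := by decide +kernel

theorem nfList_images : (nfList.map fun n => (List.range 24).map (imgL n)).Nodup := by
  decide +kernel

theorem nfList_length : nfList.length = 128 := by decide +kernel

attribute [local irreducible] evM evF collectW formXor formApp formVar matAct formZero
  Golay.permOf nfList

/-- Exact relations give a complement. -/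
theorem exists_complement {E : Type*} [Group E] [Finite E] (π : E →* ↥Spor.M23)
    (hπ : Function.Surjective π) (hab : ∀ x ∈ π.ker, ∀ y ∈ π.ker, x * y = y * x)
    (hcard : Nat.card π.ker = 2 ^ 11) (gen : ℕ → E) (hgen : ∀ a < 7, π (gen a) = elt a)
    (hrule : ∀ a < 7, ∀ b ≤ a, gen a * gen b = ((ruleRhs a b).map gen).prod) :
    ∃ H : Subgroup E, Subgroup.IsComplement' π.ker H := by
  let L : Lifts [] E :=
    { emb := fun _ => 1
      emb_add := fun _ _ => (one_mul 1).symm
      gen := gen
      emb_gen := fun a x => by rw [one_mul, mul_one]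
      unk := fun _ => 0
      rule := fun a ha b hb => by rw [mul_one]; exact hrule a ha b hb }
  have hcol : ∀ w, L.val w = L.val (collectW [] collectFuel w formZero).1 := fun w => by
    have h := L.collectW_sound collectFuel w formZero
    simpa [L] using h
  have h7 : ∀ {n}, n ∈ nfList → ∀ a ∈ n, a < 7 := fun hn a ha =>
    of_decide_eq_true (List.all_eq_true.1 (nfList_closed _ hn).1 a ha)
  have hstep : ∀ w : List ℕ, (∀ a ∈ w, a < 7) → ∀ m ∈ nfList,
      ∃ n ∈ nfList, L.val m * L.val w = L.val n := by
    intro w
    induction w with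
    | nil => exact fun _ m hm => ⟨m, hm, by rw [Lifts.val_nil, mul_one]⟩
    | cons a w ih =>
      intro h m hm
      obtain ⟨n, hn, e⟩ := ih (fun b hb => h b (List.mem_cons_of_mem _ hb)) _
        ((nfList_closed m hm).2 a (h a List.mem_cons_self))
      refine ⟨n, hn, ?_⟩
      rw [← e, ← hcol, L.val_append, L.val_cons a w, L.val_cons a [], L.val_nil, mul_one, mul_assoc]
  have hmul : ∀ x y, (∃ n ∈ nfList, L.val n = x) → (∃ n ∈ nfList, L.val n = y) →
      ∃ n ∈ nfList, L.val n = x * y := by
    rintro _ _ ⟨m, hm, rfl⟩ ⟨n, hn, rfl⟩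
    obtain ⟨k, hk, e⟩ := hstep n (h7 hn) m hm
    exact ⟨k, hk, e.symm⟩
  let H : Subgroup E :=
    { carrier := {x | ∃ n ∈ nfList, L.val n = x}
      one_mem' := ⟨[], nfList_nil, L.val_nil⟩
      mul_mem' := fun {x y} hx hy => hmul x y hx hy
      inv_mem' := fun {x} hx => by
        have hpow : ∀ k : ℕ, ∃ n ∈ nfList, L.val n = x ^ k := by
          intro k
          induction k with
          | zero => exact ⟨[], nfList_nil, by rw [pow_zero]; exact L.val_nil⟩
          | succ k ih => rw [pow_succ]; exact hmul _ _ ih hx
        have : x⁻¹ = x ^ (orderOf x - 1) := by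
          refine inv_eq_of_mul_eq_one_right ?_
          rw [← pow_succ', Nat.sub_add_cancel (orderOf_pos x), pow_orderOf_eq_one]
        show ∃ n ∈ nfList, L.val n = x⁻¹
        rw [this]
        exact hpow _ }
  have himg : ∀ n ∈ nfList, π (L.val n) = (n.map elt).prod := by
    intro n hn
    rw [Lifts.val, map_list_prod, List.map_map]
    exact congrArg List.prod (List.map_congr_left fun a ha => hgen a (h7 hn a ha))
  have h14 : ∀ {n}, n ∈ nfList → ∀ a ∈ n, a < 14 := fun hn a ha => (h7 hn a ha).trans (by omega)
  have hdisj : H ⊓ π.ker = ⊥ := by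
    rw [eq_bot_iff]
    rintro x ⟨⟨n, hn, rfl⟩, hx⟩
    have hn1 : n = [] := nfList_faithful n hn fun i hi => by
      have e : π (L.val n) = 1 := hx
      rw [himg n hn] at e
      have h2 := elt_word n (h14 hn) (Golay.ptEquiv.symm ⟨i, hi⟩)
      rw [e, Subgroup.coe_one, Equiv.Perm.one_apply, Equiv.apply_symm_apply] at h2
      exact h2.symm
    rw [hn1, L.val_nil]
    exact one_mem _
  let f : Fin nfList.length → ↥(H.map π) := fun m =>
    ⟨π (L.val nfList[m.1]), Subgroup.mem_map_of_mem π (show L.val nfList[m.1] ∈ H from
      ⟨_, List.getElem_mem m.isLt, rfl⟩)⟩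
  have hf : Function.Bijective f := by
    constructor
    · intro m k e
      have e' : π (L.val nfList[m.1]) = π (L.val nfList[k.1]) := congrArg Subtype.val e
      rw [himg _ (List.getElem_mem m.isLt), himg _ (List.getElem_mem k.isLt)] at e'
      have h2 : (List.range 24).map (imgL nfList[m.1]) = (List.range 24).map (imgL nfList[k.1]) := by
        refine List.map_congr_left fun i hi => ?_
        have hi' : i < 24 := List.mem_range.1 hi
        have a1 := elt_word nfList[m.1] (h14 (List.getElem_mem m.isLt)) (Golay.ptEquiv.symm ⟨i, hi'⟩)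
        have a2 := elt_word nfList[k.1] (h14 (List.getElem_mem k.isLt)) (Golay.ptEquiv.symm ⟨i, hi'⟩)
        rw [e', a2, Equiv.apply_symm_apply] at a1
        exact a1.symm
      refine Fin.ext ((List.Nodup.getElem_inj_iff nfList_images (hi := ?_) (hj := ?_)).1 ?_)
      · rw [List.length_map]; exact m.isLt
      · rw [List.length_map]; exact k.isLt
      · simpa using h2
    · rintro ⟨_, x, ⟨n, hn, rfl⟩, rfl⟩
      obtain ⟨m, hm, rfl⟩ := List.getElem_of_mem hn
      exact ⟨⟨m, hm⟩, rfl⟩
  have hmapcard : Nat.card ↥(H.map π) = 128 := by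
    rw [← Nat.card_congr (Equiv.ofBijective f hf), Nat.card_fin, nfList_length]
  have hindex : (π.ker ⊔ H).index = 79695 := by
    have e : (H.map π).index = (π.ker ⊔ H).index := by
      rw [Subgroup.index_map, MonoidHom.range_eq_top.2 hπ, Subgroup.index_top, mul_one, sup_comm]
    have h2 := (H.map π).card_mul_index
    rw [hmapcard, Golay.card_sporM23, e] at h2
    omega
  exact Solvable.gaschutz_exists π.ker (π.ker ⊔ H) hab le_sup_left
    (by rw [hcard, hindex]; norm_num) H le_sup_right hdisj rfl

end CfsgLib.M23Cocode.Stable
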